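import Mathlib
import Cfsg.Agent.Lib.Helper56.TCPerm
import Cfsg.Agent.Lib.Helper56.TCFast
import Cfsg.Agent.Lib.Helper56.Fi23S.OD0
set_option autoImplicit false
set_option maxRecDepth 1000000

namespace Cfsg.Agent.Lib.Helper56.Fi23S

open Cfsg.Agent.Lib.Helper56.TC Cfsg.Agent.Lib.Helper56.TC.Tabs

noncomputable def o0A : List (List ℕ) := [o0A0, o0A1, o0A2]

noncomputable def o0I : List (List ℕ) := [o0I0]

/-- generator words of the orbit certificate -/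
noncomputable def o0W : List (List ℕ) := [[0],
    [1],
    [2],
    [3],
    [4],
    [5],
    [6],
    [7],
    [8],
    [9]]

/-- an orbit certificate -/
noncomputable def o0R : Orb where
  m := 31671
  ng := 10
  gw := fun j => nthL o0W j
  par := fldA o0A 481 34 17179869183 15 32767
  gen := fldA o0A 481 34 17179869183 30 15
  O := fldA o0A 481 34 17179869183 0 32767
  Inv := fldA o0I 1092 15 32767 0 32767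

noncomputable def o1A : List (List ℕ) := [o1A0]

noncomputable def o1I : List (List ℕ) := [o1I0]

/-- generator words of the orbit certificate -/
noncomputable def o1W : List (List ℕ) := [[8, 5, 1, 2, 3, 4, 0, 1, 2, 3, 8, 9, 4, 5, 2, 3, 4, 1, 2, 3, 8, 6, 5, 4, 3, 2, 1, 0, 1, 2, 3, 4, 5, 6, 8, 3, 2, 1, 4, 3, 2, 5, 4, 9, 8, 3, 2, 1, 0, 4, 3, 2, 1, 5, 8],
    [9, 8, 5, 6, 4, 5, 2, 3, 4, 1, 2, 3, 8, 9, 4, 5, 3, 4, 1, 2, 3, 8, 6, 5, 4, 3, 2, 1, 0, 1, 2, 3, 4, 5, 6, 8, 3, 2, 1, 4, 3, 5, 4, 9, 8, 3, 2, 1, 4, 3, 2, 5, 4, 6, 5, 8, 9],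
    [3, 8, 5, 6, 4, 5, 2, 3, 4, 1, 2, 3, 8, 9, 4, 5, 3, 4, 1, 2, 3, 8, 6, 5, 4, 3, 2, 1, 0, 1, 2, 3, 4, 5, 6, 8, 3, 2, 1, 4, 3, 5, 4, 9, 8, 3, 2, 1, 4, 3, 2, 5, 4, 6, 5, 8, 3],
    [5, 4, 3, 2, 1, 0, 1, 2, 3, 4, 5],
    [9, 2, 3, 8, 4, 5, 2, 3, 4, 0, 1, 2, 3, 8, 9, 4, 5, 3, 4, 1, 2, 3, 8, 6, 5, 4, 3, 2, 1, 0, 1, 2, 3, 4, 5, 6, 8, 3, 2, 1, 4, 3, 5, 4, 9, 8, 3, 2, 1, 0, 4, 3, 2, 5, 4, 8, 3, 2, 9],
    [9, 3, 8, 4, 5, 3, 4, 2, 3, 8, 6, 5, 4, 3, 2, 1, 2, 3, 4, 5, 6, 8, 3, 2, 4, 3, 5, 4, 8, 3, 9]]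

/-- an orbit certificate -/
noncomputable def o1R : Orb where
  m := 3510
  ng := 6
  gw := fun j => nthL o1W j
  par := fldA o1A 546 30 1073741823 15 4095
  gen := fldA o1A 546 30 1073741823 27 7
  O := fldA o1A 546 30 1073741823 0 32767
  Inv := fldA o1I 1365 12 4095 0 4095

noncomputable def o2A : List (List ℕ) := [o2A0, o2A1]

noncomputable def o2I : List (List ℕ) := [o2I0]

/-- generator words of the orbit certificate -/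
noncomputable def o2W : List (List ℕ) := [[3, 8, 4, 5, 2, 3, 4, 1, 2, 3, 8, 9, 4, 5, 2, 3, 4, 1, 2, 3, 8, 6, 5, 4, 3, 2, 1, 0, 1, 2, 3, 4, 5, 6, 8, 3, 2, 1, 4, 3, 2, 5, 4, 9, 8, 3, 2, 1, 4, 3, 2, 5, 4, 8, 3],
    [4, 0, 1, 2, 3, 8, 9, 5, 4, 3, 8, 6, 5, 4, 3, 2, 1, 2, 3, 4, 5, 6, 8, 3, 4, 5, 9, 8, 3, 2, 1, 0, 4],
    [4, 3, 8, 2, 3, 4, 0, 1, 2, 3, 8, 9, 4, 5, 2, 3, 4, 1, 2, 3, 8, 6, 5, 4, 3, 2, 1, 0, 1, 2, 3, 4, 5, 6, 8, 3, 2, 1, 4, 3, 2, 5, 4, 9, 8, 3, 2, 1, 0, 4, 3, 2, 8, 3, 4],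
    [3, 8, 6, 4, 5, 3, 4, 0, 1, 2, 3, 8, 9, 4, 5, 3, 4, 1, 2, 3, 8, 6, 5, 4, 3, 2, 1, 0, 1, 2, 3, 4, 5, 6, 8, 3, 2, 1, 4, 3, 5, 4, 9, 8, 3, 2, 1, 0, 4, 3, 5, 4, 6, 8, 3],
    [6, 5, 4, 3, 8, 9, 8, 4, 5, 3, 4, 2, 3, 8, 6, 5, 4, 3, 2, 1, 0, 1, 2, 3, 4, 5, 6, 8, 3, 2, 4, 3, 5, 4, 8, 9, 8, 3, 4, 5, 6],
    [6, 5, 4, 3, 8, 9, 8, 5, 3, 4, 2, 3, 8, 6, 5, 4, 3, 2, 1, 2, 3, 4, 5, 6, 8, 3, 2, 4, 3, 5, 8, 9, 8, 3, 4, 5, 6]]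

/-- an orbit certificate -/
noncomputable def o2R : Orb where
  m := 25344
  ng := 6
  gw := fun j => nthL o2W j
  par := fldA o2A 496 33 8589934591 15 32767
  gen := fldA o2A 496 33 8589934591 30 7
  O := fldA o2A 496 33 8589934591 0 32767
  Inv := fldA o2I 1092 15 32767 0 32767

noncomputable def o3A : List (List ℕ) := [o3A0]

noncomputable def o3I : List (List ℕ) := [o3I0]

/-- generator words of the orbit certificate -/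
noncomputable def o3W : List (List ℕ) := [[4, 3, 8, 9, 8, 3, 4, 2, 3, 8, 5, 4, 3, 2, 1, 2, 3, 4, 5, 8, 3, 2, 4, 3, 8, 9, 8, 3, 4],
    [8, 5, 4, 3, 4, 5, 8],
    [8],
    [3, 4, 1, 2, 3, 8, 5, 4, 3, 2, 1, 0, 1, 2, 3, 4, 5, 8, 3, 2, 1, 4, 3],
    [4, 2, 3, 8, 9, 8, 3, 4, 2, 3, 8, 5, 4, 3, 2, 1, 2, 3, 4, 5, 8, 3, 2, 4, 3, 8, 9, 8, 3, 2, 4],
    [3, 8, 2, 3, 4, 1, 2, 3, 8, 5, 4, 3, 2, 1, 0, 1, 2, 3, 4, 5, 8, 3, 2, 1, 4, 3, 2, 8, 3],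
    [4, 1, 2, 3, 8, 9, 3, 4, 2, 3, 8, 5, 4, 3, 2, 1, 2, 3, 4, 5, 8, 3, 2, 4, 3, 9, 8, 3, 2, 1, 4]]

/-- an orbit certificate -/
noncomputable def o3R : Orb where
  m := 63
  ng := 7
  gw := fun j => nthL o3W j
  par := fldA o3A 682 24 16777215 15 63
  gen := fldA o3A 682 24 16777215 21 7
  O := fldA o3A 682 24 16777215 0 32767
  Inv := fldA o3I 2730 6 63 0 63

noncomputable def o4A : List (List ℕ) := [o4A0]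

noncomputable def o4I : List (List ℕ) := [o4I0]

/-- generator words of the orbit certificate -/
noncomputable def o4W : List (List ℕ) := [[2, 3, 8, 9, 8, 3, 4, 2, 3, 8, 5, 4, 3, 2, 1, 0, 1, 2, 3, 4, 5, 8, 3, 2, 4, 3, 8, 9, 8, 3, 2],
    [4, 0, 1, 2, 3, 8, 9, 3, 4, 2, 3, 8, 5, 4, 3, 2, 1, 2, 3, 4, 5, 8, 3, 2, 4, 3, 9, 8, 3, 2, 1, 0, 4],
    [4],
    [3, 2, 3],
    [4, 3, 8, 2, 3, 4, 1, 2, 3, 8, 5, 4, 3, 2, 1, 0, 1, 2, 3, 4, 5, 8, 3, 2, 1, 4, 3, 2, 8, 3, 4],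
    [5, 4, 2, 3, 8, 9, 8, 3, 4, 2, 3, 8, 5, 4, 3, 2, 1, 0, 1, 2, 3, 4, 5, 8, 3, 2, 4, 3, 8, 9, 8, 3, 2, 4, 5]]

/-- an orbit certificate -/
noncomputable def o4R : Orb where
  m := 96
  ng := 6
  gw := fun j => nthL o4W j
  par := fldA o4A 655 25 33554431 15 127
  gen := fldA o4A 655 25 33554431 22 7
  O := fldA o4A 655 25 33554431 0 32767
  Inv := fldA o4I 2340 7 127 0 127

noncomputable def o5A : List (List ℕ) := [o5A0]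

noncomputable def o5I : List (List ℕ) := [o5I0]

/-- generator words of the orbit certificate -/
noncomputable def o5W : List (List ℕ) := [[9, 8, 3, 4, 2, 3, 8, 5, 4, 3, 2, 1, 2, 3, 4, 5, 8, 3, 2, 4, 3, 8, 9]]

/-- an orbit certificate -/
noncomputable def o5R : Orb where
  m := 2
  ng := 1
  gw := fun j => nthL o5W j
  par := fldA o5A 963 17 131071 15 1
  gen := fldA o5A 963 17 131071 16 1
  O := fldA o5A 963 17 131071 0 32767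
  Inv := fldA o5I 8192 2 3 0 3

noncomputable def o6A : List (List ℕ) := [o6A0]

noncomputable def o6I : List (List ℕ) := [o6I0]

/-- generator words of the orbit certificate -/
noncomputable def o6W : List (List ℕ) := [[5],
    [4],
    [3, 8, 9, 8, 3, 4, 2, 3, 8, 5, 4, 3, 2, 1, 0, 1, 2, 3, 4, 5, 8, 3, 2, 4, 3, 8, 9, 8, 3],
    [3]]

/-- an orbit certificate -/
noncomputable def o6R : Orb where
  m := 120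
  ng := 4
  gw := fun j => nthL o6W j
  par := fldA o6A 682 24 16777215 15 127
  gen := fldA o6A 682 24 16777215 22 3
  O := fldA o6A 682 24 16777215 0 32767
  Inv := fldA o6I 2340 7 127 0 127

noncomputable def oAA : List (List ℕ) := [oAA0, oAA1]

noncomputable def oAI : List (List ℕ) := [oAI0]

/-- generator words of the orbit certificate -/
noncomputable def oAW : List (List ℕ) := [[8, 5, 1, 2, 3, 4, 0, 1, 2, 3, 8, 9, 4, 5, 2, 3, 4, 1, 2, 3, 8, 6, 5, 4, 3, 2, 1, 0, 1, 2, 3, 4, 5, 6, 8, 3, 2, 1, 4, 3, 2, 5, 4, 9, 8, 3, 2, 1, 0, 4, 3, 2, 1, 5, 8],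
    [9, 8, 5, 6, 4, 5, 2, 3, 4, 1, 2, 3, 8, 9, 4, 5, 3, 4, 1, 2, 3, 8, 6, 5, 4, 3, 2, 1, 0, 1, 2, 3, 4, 5, 6, 8, 3, 2, 1, 4, 3, 5, 4, 9, 8, 3, 2, 1, 4, 3, 2, 5, 4, 6, 5, 8, 9],
    [3, 8, 5, 6, 4, 5, 2, 3, 4, 1, 2, 3, 8, 9, 4, 5, 3, 4, 1, 2, 3, 8, 6, 5, 4, 3, 2, 1, 0, 1, 2, 3, 4, 5, 6, 8, 3, 2, 1, 4, 3, 5, 4, 9, 8, 3, 2, 1, 4, 3, 2, 5, 4, 6, 5, 8, 3],
    [5, 4, 3, 2, 1, 0, 1, 2, 3, 4, 5],
    [9, 2, 3, 8, 4, 5, 2, 3, 4, 0, 1, 2, 3, 8, 9, 4, 5, 3, 4, 1, 2, 3, 8, 6, 5, 4, 3, 2, 1, 0, 1, 2, 3, 4, 5, 6, 8, 3, 2, 1, 4, 3, 5, 4, 9, 8, 3, 2, 1, 0, 4, 3, 2, 5, 4, 8, 3, 2, 9],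
    [9, 3, 8, 4, 5, 3, 4, 2, 3, 8, 6, 5, 4, 3, 2, 1, 2, 3, 4, 5, 6, 8, 3, 2, 4, 3, 5, 4, 8, 3, 9]]

/-- an orbit certificate -/
noncomputable def oAR : Orb where
  m := 28160
  ng := 6
  gw := fun j => nthL oAW j
  par := fldA oAA 496 33 8589934591 15 32767
  gen := fldA oAA 496 33 8589934591 30 7
  O := fldA oAA 496 33 8589934591 0 32767
  Inv := fldA oAI 1092 15 32767 0 32767

/-- a word of order 23 -/
noncomputable def wy : List ℕ := [9, 5, 4, 6, 8, 3, 5, 4, 5, 1, 2, 0, 1, 0, 3, 8, 0, 8, 2, 0, 8, 4, 6, 5, 3, 8, 4, 6, 7, 2, 6, 3]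

noncomputable def tyA : List (List ℕ) := [tyA0]
/-- the action of the word -/
noncomputable def tauy : ℕ → ℕ := fldA tyA 1092 15 32767 0 32767

noncomputable def tzA : List (List ℕ) := [tzA0]
/-- the action of the word -/
noncomputable def tauz : ℕ → ℕ := fldA tzA 1092 15 32767 0 32767

end Cfsg.Agent.Lib.Helper56.Fi23S
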