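import Mathlib
import Cfsg.Agent.Lib.Helper56.TCPerm
import Cfsg.Agent.Lib.Helper56.TCPow
import Cfsg.Agent.Lib.Helper56.Fi23a.Cert
import Cfsg.Agent.Lib.Helper56.Fi23S.OrbD
import Cfsg.Agent.Lib.Helper56.Fi23S.OrbC0
import Cfsg.Agent.Lib.Helper56.Fi23S.OrbC1
import Cfsg.Agent.Lib.Helper56.Fi23S.OrbC2
import Cfsg.Agent.Lib.Helper56.Fi23S.OrbC3
import Cfsg.Agent.Lib.Helper56.Fi23S.OrbC4
import Cfsg.Agent.Lib.Helper56.Fi23S.OrbC5
set_option autoImplicit false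
set_option maxRecDepth 1000000

namespace Cfsg.Agent.Lib.Helper56.Fi23S

open Cfsg.Agent.Lib.Helper56.TC Cfsg.Agent.Lib.Helper56.TC.Tabs

theorem o0_u21428 : Upto (chkOrb Fi23a.T o0R 0) 21428 := upto_add (upto_zero (chkOrb Fi23a.T o0R 0)) rfl o0_c0
theorem o0_u31671 : Upto (chkOrb Fi23a.T o0R 0) 31671 := upto_add o0_u21428 rfl o0_c21428
theorem o0_all : ∀ x < 31671, (chkOrb Fi23a.T o0R 0) x = true := o0_u31671

theorem o0_hg : ∀ j < o0R.ng, (∀ a ∈ o0R.gw j, a < Fi23a.T.K) ∧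
    ∀ b ∈ ([] : List ℕ), b < Fi23a.T.N ∧ Fi23a.T.followT (o0R.gw j) b = b := by decide +kernel

theorem o1_u2307 : Upto (chkOrb Fi23a.T o1R 52) 2307 := upto_add (upto_zero (chkOrb Fi23a.T o1R 52)) rfl o1_c0
theorem o1_u3510 : Upto (chkOrb Fi23a.T o1R 52) 3510 := upto_add o1_u2307 rfl o1_c2307
theorem o1_all : ∀ x < 3510, (chkOrb Fi23a.T o1R 52) x = true := o1_u3510

theorem o1_hg : ∀ j < o1R.ng, (∀ a ∈ o1R.gw j, a < Fi23a.T.K) ∧
    ∀ b ∈ ([0] : List ℕ), b < Fi23a.T.N ∧ Fi23a.T.followT (o1R.gw j) b = b := by decide +kernel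

theorem o2_u2459 : Upto (chkOrb Fi23a.T o2R 1) 2459 := upto_add (upto_zero (chkOrb Fi23a.T o2R 1)) rfl o2_c0
theorem o2_u4918 : Upto (chkOrb Fi23a.T o2R 1) 4918 := upto_add o2_u2459 rfl o2_c2459
theorem o2_u7377 : Upto (chkOrb Fi23a.T o2R 1) 7377 := upto_add o2_u4918 rfl o2_c4918
theorem o2_u9836 : Upto (chkOrb Fi23a.T o2R 1) 9836 := upto_add o2_u7377 rfl o2_c7377
theorem o2_u12295 : Upto (chkOrb Fi23a.T o2R 1) 12295 := upto_add o2_u9836 rfl o2_c9836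
theorem o2_u14754 : Upto (chkOrb Fi23a.T o2R 1) 14754 := upto_add o2_u12295 rfl o2_c12295
theorem o2_u17213 : Upto (chkOrb Fi23a.T o2R 1) 17213 := upto_add o2_u14754 rfl o2_c14754
theorem o2_u19672 : Upto (chkOrb Fi23a.T o2R 1) 19672 := upto_add o2_u17213 rfl o2_c17213
theorem o2_u22131 : Upto (chkOrb Fi23a.T o2R 1) 22131 := upto_add o2_u19672 rfl o2_c19672
theorem o2_u24590 : Upto (chkOrb Fi23a.T o2R 1) 24590 := upto_add o2_u22131 rfl o2_c22131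
theorem o2_u25344 : Upto (chkOrb Fi23a.T o2R 1) 25344 := upto_add o2_u24590 rfl o2_c24590
theorem o2_all : ∀ x < 25344, (chkOrb Fi23a.T o2R 1) x = true := o2_u25344

theorem o2_hg : ∀ j < o2R.ng, (∀ a ∈ o2R.gw j, a < Fi23a.T.K) ∧
    ∀ b ∈ ([52, 0] : List ℕ), b < Fi23a.T.N ∧ Fi23a.T.followT (o2R.gw j) b = b := by decide +kernel

theorem o3_u63 : Upto (chkOrb Fi23a.T o3R 621) 63 := upto_add (upto_zero (chkOrb Fi23a.T o3R 621)) rfl o3_c0
theorem o3_all : ∀ x < 63, (chkOrb Fi23a.T o3R 621) x = true := o3_u63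

theorem o3_hg : ∀ j < o3R.ng, (∀ a ∈ o3R.gw j, a < Fi23a.T.K) ∧
    ∀ b ∈ ([1, 52, 0] : List ℕ), b < Fi23a.T.N ∧ Fi23a.T.followT (o3R.gw j) b = b := by decide +kernel

theorem o4_u96 : Upto (chkOrb Fi23a.T o4R 10) 96 := upto_add (upto_zero (chkOrb Fi23a.T o4R 10)) rfl o4_c0
theorem o4_all : ∀ x < 96, (chkOrb Fi23a.T o4R 10) x = true := o4_u96

theorem o4_hg : ∀ j < o4R.ng, (∀ a ∈ o4R.gw j, a < Fi23a.T.K) ∧
    ∀ b ∈ ([621, 1, 52, 0] : List ℕ), b < Fi23a.T.N ∧ Fi23a.T.followT (o4R.gw j) b = b := by decide +kernel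

theorem o5_u2 : Upto (chkOrb Fi23a.T o5R 62) 2 := upto_add (upto_zero (chkOrb Fi23a.T o5R 62)) rfl o5_c0
theorem o5_all : ∀ x < 2, (chkOrb Fi23a.T o5R 62) x = true := o5_u2

theorem o5_hg : ∀ j < o5R.ng, (∀ a ∈ o5R.gw j, a < Fi23a.T.K) ∧
    ∀ b ∈ ([10, 621, 1, 52, 0] : List ℕ), b < Fi23a.T.N ∧ Fi23a.T.followT (o5R.gw j) b = b := by decide +kernel

theorem o6_u120 : Upto (chkOrb Fi23a.T o6R 374) 120 := upto_add (upto_zero (chkOrb Fi23a.T o6R 374)) rfl o6_c0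
theorem o6_all : ∀ x < 120, (chkOrb Fi23a.T o6R 374) x = true := o6_u120

theorem o6_hg : ∀ j < o6R.ng, (∀ a ∈ o6R.gw j, a < Fi23a.T.K) ∧
    ∀ b ∈ ([62, 10, 621, 1, 52, 0] : List ℕ), b < Fi23a.T.N ∧ Fi23a.T.followT (o6R.gw j) b = b := by decide +kernel

theorem oA_u2307 : Upto (chkOrb Fi23a.T oAR 1) 2307 := upto_add (upto_zero (chkOrb Fi23a.T oAR 1)) rfl oA_c0
theorem oA_u4614 : Upto (chkOrb Fi23a.T oAR 1) 4614 := upto_add oA_u2307 rfl oA_c2307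
theorem oA_u6921 : Upto (chkOrb Fi23a.T oAR 1) 6921 := upto_add oA_u4614 rfl oA_c4614
theorem oA_u9228 : Upto (chkOrb Fi23a.T oAR 1) 9228 := upto_add oA_u6921 rfl oA_c6921
theorem oA_u11535 : Upto (chkOrb Fi23a.T oAR 1) 11535 := upto_add oA_u9228 rfl oA_c9228
theorem oA_u13842 : Upto (chkOrb Fi23a.T oAR 1) 13842 := upto_add oA_u11535 rfl oA_c11535
theorem oA_u16149 : Upto (chkOrb Fi23a.T oAR 1) 16149 := upto_add oA_u13842 rfl oA_c13842
theorem oA_u18456 : Upto (chkOrb Fi23a.T oAR 1) 18456 := upto_add oA_u16149 rfl oA_c16149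
theorem oA_u20763 : Upto (chkOrb Fi23a.T oAR 1) 20763 := upto_add oA_u18456 rfl oA_c18456
theorem oA_u23070 : Upto (chkOrb Fi23a.T oAR 1) 23070 := upto_add oA_u20763 rfl oA_c20763
theorem oA_u25377 : Upto (chkOrb Fi23a.T oAR 1) 25377 := upto_add oA_u23070 rfl oA_c23070
theorem oA_u27684 : Upto (chkOrb Fi23a.T oAR 1) 27684 := upto_add oA_u25377 rfl oA_c25377
theorem oA_u28160 : Upto (chkOrb Fi23a.T oAR 1) 28160 := upto_add oA_u27684 rfl oA_c27684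
theorem oA_all : ∀ x < 28160, (chkOrb Fi23a.T oAR 1) x = true := oA_u28160

theorem oA_hg : ∀ j < oAR.ng, (∀ a ∈ oAR.gw j, a < Fi23a.T.K) ∧
    ∀ b ∈ ([0] : List ℕ), b < Fi23a.T.N ∧ Fi23a.T.followT (oAR.gw j) b = b := by decide +kernel

theorem cover_u31671 : Upto (fun y => Nat.beq y 0 || (inOrb oAR y || inOrb o1R y)) 31671 := upto_add (upto_zero (fun y => Nat.beq y 0 || (inOrb oAR y || inOrb o1R y))) rfl cover_c0
theorem cover_all : ∀ x < 31671, (fun y => Nat.beq y 0 || (inOrb oAR y || inOrb o1R y)) x = true := cover_u31671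

theorem zeroA : inOrb oAR 0 = false := by decide +kernel
theorem zeroB : inOrb o1R 0 = false := by decide +kernel
theorem cntA : countLt (inOrb oAR) Fi23a.T.N = 28160 := by decide +kernel
theorem cntB : countLt (inOrb o1R) Fi23a.T.N = 3510 := by decide +kernel

theorem pyT_u2542 : Upto (chkPowT Fi23a.T tauy wy 23) 2542 := upto_add (upto_zero (chkPowT Fi23a.T tauy wy 23)) rfl pyT_c0
theorem pyT_u5084 : Upto (chkPowT Fi23a.T tauy wy 23) 5084 := upto_add pyT_u2542 rfl pyT_c2542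
theorem pyT_u7626 : Upto (chkPowT Fi23a.T tauy wy 23) 7626 := upto_add pyT_u5084 rfl pyT_c5084
theorem pyT_u10168 : Upto (chkPowT Fi23a.T tauy wy 23) 10168 := upto_add pyT_u7626 rfl pyT_c7626
theorem pyT_u12710 : Upto (chkPowT Fi23a.T tauy wy 23) 12710 := upto_add pyT_u10168 rfl pyT_c10168
theorem pyT_u15252 : Upto (chkPowT Fi23a.T tauy wy 23) 15252 := upto_add pyT_u12710 rfl pyT_c12710
theorem pyT_u17794 : Upto (chkPowT Fi23a.T tauy wy 23) 17794 := upto_add pyT_u15252 rfl pyT_c15252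
theorem pyT_u20336 : Upto (chkPowT Fi23a.T tauy wy 23) 20336 := upto_add pyT_u17794 rfl pyT_c17794
theorem pyT_u22878 : Upto (chkPowT Fi23a.T tauy wy 23) 22878 := upto_add pyT_u20336 rfl pyT_c20336
theorem pyT_u25420 : Upto (chkPowT Fi23a.T tauy wy 23) 25420 := upto_add pyT_u22878 rfl pyT_c22878
theorem pyT_u27962 : Upto (chkPowT Fi23a.T tauy wy 23) 27962 := upto_add pyT_u25420 rfl pyT_c25420
theorem pyT_u30504 : Upto (chkPowT Fi23a.T tauy wy 23) 30504 := upto_add pyT_u27962 rfl pyT_c27962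
theorem pyT_u31671 : Upto (chkPowT Fi23a.T tauy wy 23) 31671 := upto_add pyT_u30504 rfl pyT_c30504
theorem pyT_all : ∀ x < 31671, (chkPowT Fi23a.T tauy wy 23) x = true := pyT_u31671

theorem py_all : ∀ x < 31671, chkPow Fi23a.T wy 23 x = true :=
  chkPow_of_T Fi23a.cert.p1 tauy wy (by decide +kernel) 23 pyT_all

theorem pzT_u2500 : Upto (chkPowT Fi23a.T tauz (wy.reverse ++ [0]) 23) 2500 := upto_add (upto_zero (chkPowT Fi23a.T tauz (wy.reverse ++ [0]) 23)) rfl pzT_c0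
theorem pzT_u5000 : Upto (chkPowT Fi23a.T tauz (wy.reverse ++ [0]) 23) 5000 := upto_add pzT_u2500 rfl pzT_c2500
theorem pzT_u7500 : Upto (chkPowT Fi23a.T tauz (wy.reverse ++ [0]) 23) 7500 := upto_add pzT_u5000 rfl pzT_c5000
theorem pzT_u10000 : Upto (chkPowT Fi23a.T tauz (wy.reverse ++ [0]) 23) 10000 := upto_add pzT_u7500 rfl pzT_c7500
theorem pzT_u12500 : Upto (chkPowT Fi23a.T tauz (wy.reverse ++ [0]) 23) 12500 := upto_add pzT_u10000 rfl pzT_c10000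
theorem pzT_u15000 : Upto (chkPowT Fi23a.T tauz (wy.reverse ++ [0]) 23) 15000 := upto_add pzT_u12500 rfl pzT_c12500
theorem pzT_u17500 : Upto (chkPowT Fi23a.T tauz (wy.reverse ++ [0]) 23) 17500 := upto_add pzT_u15000 rfl pzT_c15000
theorem pzT_u20000 : Upto (chkPowT Fi23a.T tauz (wy.reverse ++ [0]) 23) 20000 := upto_add pzT_u17500 rfl pzT_c17500
theorem pzT_u22500 : Upto (chkPowT Fi23a.T tauz (wy.reverse ++ [0]) 23) 22500 := upto_add pzT_u20000 rfl pzT_c20000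
theorem pzT_u25000 : Upto (chkPowT Fi23a.T tauz (wy.reverse ++ [0]) 23) 25000 := upto_add pzT_u22500 rfl pzT_c22500
theorem pzT_u27500 : Upto (chkPowT Fi23a.T tauz (wy.reverse ++ [0]) 23) 27500 := upto_add pzT_u25000 rfl pzT_c25000
theorem pzT_u30000 : Upto (chkPowT Fi23a.T tauz (wy.reverse ++ [0]) 23) 30000 := upto_add pzT_u27500 rfl pzT_c27500
theorem pzT_u31671 : Upto (chkPowT Fi23a.T tauz (wy.reverse ++ [0]) 23) 31671 := upto_add pzT_u30000 rfl pzT_c30000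
theorem pzT_all : ∀ x < 31671, (chkPowT Fi23a.T tauz (wy.reverse ++ [0]) 23) x = true := pzT_u31671

theorem pz_all : ∀ x < 31671, chkPow Fi23a.T (wy.reverse ++ [0]) 23 x = true :=
  chkPow_of_T Fi23a.cert.p1 tauz (wy.reverse ++ [0]) (by decide +kernel) 23 pzT_all


end Cfsg.Agent.Lib.Helper56.Fi23S
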